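import Mathlib.GroupTheory.PGroup
import Mathlib.GroupTheory.OrderOfElement
import Mathlib.SetTheory.Cardinal.Finite
import Mathlib
import Cfsg.Agent.H749.BlockOrth_m3
import Cfsg.Agent.S0243
import Cfsg.Agent.H458.FieldKill
import Cfsg.Agent.S0245
import Cfsg.Agent.S0246
import Cfsg.Agent.LFourA.LCent_mg_m3
import Cfsg.Prelude.Def_Classical
import Cfsg.Agent.H803.Realize
import Cfsg.Agent.Lib.Cores
import Mathlib.GroupTheory.GroupAction.ConjAct
import Cfsg.Agent.FastGrp
import Cfsg.Agent.Prune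
set_option linter.all false

section
prune_inst 0x7f00000000000000000000000000000000000000000000000000000000000000000000000000000000000000000000000000000000000000000000000000000000000000000000000000000000000000003fffffffffffffffffffffffffffbeffbdffffffff

-- part: H777/ElimDef
section
set_option linter.all false
open scoped Cfsg.Agent.FastGrp

/-!
# Interface for the elimination of the simple groups with Sylow 3-subgroup of order `3 ^ 10` (helper777)

`Row K`: if the 3-part of `|K|` is `3 ^ 10` then `K` has an abelian 3-subgroup of order at least `3 ^ 6` or an element of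
order 81. To be proved for the groups of Lie type in characteristic different from 3 (and the alternating groups).
-/

set_option autoImplicit false

namespace Cfsg.Agent.H777.Elim

/-- the 3-part of the order of `K` is `3 ^ n` -/
def Vn (n : ℕ) (K : Type*) [Group K] : Prop := 3 ^ n ∣ Nat.card K ∧ ¬ 3 ^ (n + 1) ∣ Nat.card K

/-- a large abelian 3-subgroup, or an element of order 81 -/
def Big (K : Type*) [Group K] : Prop :=
  (∃ A : Subgroup K, IsPGroup 3 A ∧ (∀ x ∈ A, ∀ y ∈ A, x * y = y * x) ∧ 3 ^ 6 ≤ Nat.card A) ∨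
    ∃ x : K, orderOf x = 81

/-- the row to be proved -/
def Row (K : Type*) [Group K] : Prop := Vn 10 K → Big K

theorem Big.congr {K L : Type*} [Group K] [Group L] (e : K ≃* L) (h : Big K) : Big L := by
  rcases h with ⟨A, hA, hab, hc⟩ | ⟨x, hx⟩
  · refine Or.inl ⟨A.map e.toMonoidHom, hA.map _, ?_, ?_⟩
    · rintro _ ⟨x, hx, rfl⟩ _ ⟨y, hy, rfl⟩
      rw [← map_mul, ← map_mul, hab x hx y hy]
    · rw [← Nat.card_congr (A.equivMapOfInjective e.toMonoidHom e.injective).toEquiv]
      exact hc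
  · exact Or.inr ⟨e x, by rw [← hx]; exact MulEquiv.orderOf_eq e x⟩

theorem Row.congr {K L : Type*} [Group K] [Group L] (e : K ≃* L) (h : Row K) : Row L := by
  intro hV
  apply (h _).congr e
  unfold Vn at hV ⊢
  rwa [Nat.card_congr e.toEquiv]

/-- `Big` from a homomorphism injective on an abelian 3-subgroup -/
theorem Big.of_hom {K L : Type*} [Group K] [Group L] {A : Subgroup L} (f : L →* K) (hA : IsPGroup 3 A)
    (hab : ∀ x ∈ A, ∀ y ∈ A, x * y = y * x) (hc : 3 ^ 6 ≤ Nat.card A) (hf : ∀ x ∈ A, f x = 1 → x = 1) : Big K := by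
  refine Or.inl ⟨A.map f, hA.map _, ?_, ?_⟩
  · rintro _ ⟨x, hx, rfl⟩ _ ⟨y, hy, rfl⟩
    rw [← map_mul, ← map_mul, hab x hx y hy]
  · have hinj : Function.Injective (f.comp A.subtype) := by
      rw [injective_iff_map_eq_one]
      intro x hx
      exact Subtype.ext (hf x x.2 hx)
    have h2 : Nat.card A = Nat.card (f.comp A.subtype).range :=
      Nat.card_congr (MonoidHom.ofInjective hinj).toEquiv
    have h3 : (f.comp A.subtype).range = A.map f := by
      rw [MonoidHom.range_comp, Subgroup.range_subtype]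
    rw [h2, h3] at hc
    exact hc

end Cfsg.Agent.H777.Elim
end

-- part: H458/Ab3_mg
section
set_option linter.all false
open scoped Cfsg.Agent.FastGrp

-- part: H458/Ab3
section
/-!
# `PSL_n(q)` and the groups with 3-part `3 ^ 10` (helper458, for S5229 and S5231)

* `core`: an abelian 3-subgroup `A` of `G` with `v_3 |G| ≤ v_3 |A| + 4` gives `Big (G ⧸ Z)`.
* `row_psl`.
-/

set_option autoImplicit false
set_option linter.unusedSectionVars false

namespace Cfsg.Agent.H458.Ab3

open Cfsg.Agent.H777.Elim Cfsg.Agent.H749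

instance fact3 : Fact (Nat.Prime 3) := ⟨Nat.prime_three⟩

theorem vn_iff {n : ℕ} {K : Type*} [Group K] [Finite K] : Vn n K ↔ (Nat.card K).factorization 3 = n := by
  have h0 : Nat.card K ≠ 0 := Nat.card_pos.ne'
  unfold Vn
  rw [Nat.prime_three.pow_dvd_iff_le_factorization h0, Nat.prime_three.pow_dvd_iff_le_factorization h0]
  omega

section core

variable {G : Type*} [Group G] [Finite G] (Z : Subgroup G) [Z.Normal]

theorem v_quot : (Nat.card G).factorization 3 = (Nat.card (G ⧸ Z)).factorization 3 + (Nat.card Z).factorization 3 := by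
  rw [Subgroup.card_eq_card_quotient_mul_card_subgroup Z, Nat.factorization_mul Nat.card_pos.ne' Nat.card_pos.ne']
  rfl

theorem core {A : Type*} [CommGroup A] [Finite A] (f : A →* G) (hf : Function.Injective f) (hA : IsPGroup 3 A)
    (h : (Nat.card G).factorization 3 ≤ (Nat.card A).factorization 3 + 4) (hV : Vn 10 (G ⧸ Z)) : Big (G ⧸ Z) := by
  obtain ⟨g, hg⟩ : ∃ g : A →* G ⧸ Z, g = (QuotientGroup.mk' Z).comp f := ⟨_, rfl⟩
  refine Or.inl ⟨g.range, ?_, ?_, ?_⟩
  · exact hA.of_surjective g.rangeRestrict g.rangeRestrict_surjective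
  · rintro _ ⟨x, rfl⟩ _ ⟨y, rfl⟩
    rw [← map_mul, ← map_mul, mul_comm]
  · have h1 : Nat.card g.ker ∣ Nat.card Z := by
      refine Subgroup.card_dvd_of_injective (f := (((f.comp g.ker.subtype).codRestrict Z) fun x => ?_)) ?_
      · have hx : g x.1 = 1 := x.2
        exact (QuotientGroup.eq_one_iff _).1 ((DFunLike.congr_fun hg x.1).symm.trans hx)
      · intro x y hxy
        exact Subtype.ext (hf (congrArg Subtype.val hxy))
    have h2 : (Nat.card g.ker).factorization 3 ≤ (Nat.card Z).factorization 3 :=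
      (Nat.factorization_le_iff_dvd Nat.card_pos.ne' Nat.card_pos.ne').2 h1 3
    have h3 : (Nat.card A).factorization 3 = (Nat.card g.range).factorization 3 + (Nat.card g.ker).factorization 3 := by
      rw [← Subgroup.card_mul_index g.ker, Subgroup.index_ker, mul_comm, Nat.factorization_mul Nat.card_pos.ne' Nat.card_pos.ne']
      rfl
    have h4 := v_quot Z
    have h5 := vn_iff.1 hV
    refine Nat.le_of_dvd Nat.card_pos ?_
    rw [Nat.prime_three.pow_dvd_iff_le_factorization Nat.card_pos.ne']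
    omega

end core

/-- `v_3(n!) ≤ 4` for `n ≤ 11` -/
theorem v_fact {n : ℕ} (hn : n ≤ 11) : n.factorial.factorization 3 ≤ 4 := by
  have h1 : n.factorial.factorization 3 ≤ (Nat.factorial 11).factorization 3 :=
    (Nat.factorization_le_iff_dvd (Nat.factorial_ne_zero _) (Nat.factorial_ne_zero _)).2 (Nat.factorial_dvd_factorial hn) 3
  have h2 : ¬ 3 ^ 5 ∣ Nat.factorial 11 := by decide
  rw [Nat.prime_three.pow_dvd_iff_le_factorization (Nat.factorial_ne_zero _)] at h2
  omega

/-- the 3-part of a finite commutative group -/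
theorem exists_part (C : Type*) [CommGroup C] [Finite C] : ∃ P : Subgroup C, IsPGroup 3 P ∧
    (Nat.card P).factorization 3 = (Nat.card C).factorization 3 := by
  obtain ⟨P⟩ : Nonempty (Sylow 3 C) := inferInstance
  refine ⟨P, P.isPGroup', ?_⟩
  rw [Sylow.card_eq_multiplicity P, Nat.Prime.factorization_pow Nat.prime_three, Finsupp.single_eq_same]

theorem card_pi {ι P : Type*} [Fintype ι] : (Nat.card (ι → P)).factorization 3 = Fintype.card ι * (Nat.card P).factorization 3 := by
  rw [Nat.card_fun, Nat.factorization_pow, Finsupp.smul_apply, smul_eq_mul, Nat.card_eq_fintype_card]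

theorem isPGroup_pi {ι P : Type*} [Finite ι] [Finite P] [Group P] (hP : IsPGroup 3 P) : IsPGroup 3 (ι → P) := by
  have := Fintype.ofFinite ι
  obtain ⟨n, hn⟩ := IsPGroup.iff_card.1 hP
  exact IsPGroup.of_card (n := n * Fintype.card ι) (by rw [Nat.card_fun, hn, ← pow_mul, Nat.card_eq_fintype_card])

/-! ### the order of `SL_n(q)` -/

theorem vSL {F : Type*} [Field F] [Finite F] {e : ℕ} (he : orderOf ((Nat.card F : ℤ) : ZMod 3) = e)
    (he0 : e ≠ 0) {n : ℕ} (hn : 1 ≤ n) :
    (Nat.card Fˣ).factorization 3 + (Nat.card (Matrix.SpecialLinearGroup (Fin n) F)).factorization 3 =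
      (n / e) * (Nat.card F ^ e - 1).factorization 3 + (n / e).factorial.factorization 3 := by
  have := Fintype.ofFinite F
  obtain ⟨q, hq⟩ : ∃ q, q = Nat.card F := ⟨_, rfl⟩
  have h := S0242.result (F := F) (q := q) (by rw [hq, Nat.card_eq_fintype_card]) n hn
  have hq1 : 1 < q := by rw [hq]; exact Finite.one_lt_card
  rw [Nat.card_units]
  rw [← hq] at he ⊢
  have hpq : ¬ ((3 : ℕ) : ℤ) ∣ (q : ℤ) := by
    intro h1
    have h2 : ((q : ℤ) : ZMod 3) = 0 := (ZMod.intCast_zmod_eq_zero_iff_dvd _ _).2 h1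
    rw [h2] at he
    have h3 : orderOf (0 : ZMod 3) = 0 := by
      rw [orderOf_eq_zero_iff']
      intro m hm
      rw [zero_pow hm.ne']
      exact zero_ne_one
    omega
  have hcast : ∀ m : ℕ, ((q ^ m - 1 : ℕ) : ℤ) = (q : ℤ) ^ m - 1 := fun m => by
    rw [Nat.cast_sub (Nat.one_le_pow _ _ (by omega)), Nat.cast_pow]; rfl
  have h1 : ((q - 1 : ℕ) : ℤ) = (q : ℤ) - 1 := by rw [Nat.cast_sub hq1.le]; rfl
  have hZ : ((q : ℤ) - 1) * (Nat.card (Matrix.SpecialLinearGroup (Fin n) F) : ℤ) =
      ∏ i ∈ Finset.range n, ((q : ℤ) ^ n - (q : ℤ) ^ i) := by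
    rw [← h1, ← Nat.cast_mul, h, Nat.cast_prod, Fin.prod_univ_eq_prod_range (fun i => ((q ^ n - q ^ i : ℕ) : ℤ)) n]
    refine Finset.prod_congr rfl fun i hi => ?_
    rw [Nat.cast_sub (Nat.pow_le_pow_right hq1.le (Finset.mem_range.1 hi).le), Nat.cast_pow, Nat.cast_pow]
  have hrev : ∏ i ∈ Finset.range n, ((q : ℤ) ^ n - (q : ℤ) ^ i) =
      (∏ i ∈ Finset.range n, (q : ℤ) ^ i) * ∏ i ∈ Finset.range n, ((q : ℤ) ^ (i + 1) - 1) := by
    rw [← Finset.prod_range_reflect (fun i => (q : ℤ) ^ (i + 1) - 1) n, ← Finset.prod_mul_distrib]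
    refine Finset.prod_congr rfl fun i hi => ?_
    have hi' := Finset.mem_range.1 hi
    rw [mul_sub, mul_one, ← pow_add]
    congr 2
    omega
  have hcard : (Nat.card (Matrix.SpecialLinearGroup (Fin n) F) : ℤ) ≠ 0 := by
    exact_mod_cast Nat.card_pos.ne'
  have hq1' : (q : ℤ) - 1 ≠ 0 := by
    have := pow_ne_one' hq1 1 one_ne_zero
    rw [pow_one] at this
    exact sub_ne_zero.2 this
  have hne : ∀ i ∈ Finset.range n, (q : ℤ) ^ (i + 1) - 1 ≠ 0 := fun i _ =>
    sub_ne_zero.2 (pow_ne_one' hq1 _ (Nat.succ_ne_zero i))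
  have h2 := congrArg (vp 3) (hZ.trans hrev)
  rw [vp_mul 3 hq1' hcard, vp_mul 3 (Finset.prod_ne_zero_iff.2 fun i _ => pow_ne_zero _ (by positivity))
    (Finset.prod_ne_zero_iff.2 hne), vp_prod (by decide) he (pow_ne_one' hq1), vp_natCast, ← h1, vp_natCast,
    ← hcast, vp_natCast] at h2
  have h4 : vp 3 (∏ i ∈ Finset.range n, (q : ℤ) ^ i) = 0 := by
    apply vp_eq_zero
    intro h4
    rw [Prime.dvd_finsetProd_iff (Nat.prime_iff_prime_int.1 Nat.prime_three)] at h4
    obtain ⟨i, -, h5⟩ := h4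
    exact hpq ((Nat.prime_iff_prime_int.1 Nat.prime_three).dvd_of_dvd_pow h5)
  rw [h4, zero_add] at h2
  exact h2

theorem not_dvd {F : Type*} [Field F] [Finite F] (h3 : (3 : F) ≠ 0) : ¬ 3 ∣ Nat.card F := by
  intro h
  obtain ⟨r, hr⟩ := CharP.exists F
  have hrp : r.Prime := CharP.char_is_prime F r
  have := Fintype.ofFinite F
  obtain ⟨k, -, hk⟩ := FiniteField.card F r
  rw [Nat.card_eq_fintype_card, hk] at h
  have h1 := Nat.prime_three.dvd_of_dvd_pow h
  have h2 : (3 : ℕ) = r := (Nat.prime_dvd_prime_iff_eq Nat.prime_three hrp).1 h1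
  subst h2
  exact h3 (by exact_mod_cast CharP.cast_eq_zero F 3)

theorem order_cases {F : Type*} [Field F] [Finite F] (h3 : (3 : F) ≠ 0) :
    (orderOf ((Nat.card F : ℤ) : ZMod 3) = 1 ∧ 3 ∣ Nat.card F - 1) ∨
      (orderOf ((Nat.card F : ℤ) : ZMod 3) = 2 ∧ 3 ∣ Nat.card F + 1) := by
  have h := not_dvd h3
  have h1 : Nat.card F % 3 = 1 ∨ Nat.card F % 3 = 2 := by omega
  rcases h1 with h1 | h1
  · refine Or.inl ⟨?_, by omega⟩
    rw [orderOf_eq_one_iff, Int.cast_natCast, ← ZMod.natCast_mod, h1, Nat.cast_one]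
  · refine Or.inr ⟨?_, by omega⟩
    rw [Int.cast_natCast, ← ZMod.natCast_mod, h1]
    exact orderOf_eq_prime (by decide) (by decide)

/-- matrices of an injective representation with determinant one -/
theorem exists_hom_SL {F V : Type*} [Field F] [AddCommGroup V] [Module F V] [Module.Finite F V] {n : ℕ}
    (hn : Module.finrank F V = n) {A : Type*} [Group A] (φ : A →* (V ≃ₗ[F] V)) (hφ : Function.Injective φ)
    (hd : ∀ a, LinearMap.det (φ a).toLinearMap = 1) :
    ∃ f : A →* Matrix.SpecialLinearGroup (Fin n) F, Function.Injective f := by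
  obtain ⟨b⟩ : Nonempty (Module.Basis (Fin n) F V) := ⟨Module.finBasisOfFinrankEq F V hn⟩
  refine ⟨⟨⟨fun a => ⟨LinearMap.toMatrix b b (φ a).toLinearMap, by rw [LinearMap.det_toMatrix, hd]⟩, ?_⟩, ?_⟩, ?_⟩
  · refine Subtype.ext ?_
    show LinearMap.toMatrix b b (φ 1).toLinearMap = 1
    rw [map_one]
    exact LinearMap.toMatrix_one b
  · intro x y
    refine Subtype.ext ?_
    show LinearMap.toMatrix b b (φ (x * y)).toLinearMap = LinearMap.toMatrix b b (φ x).toLinearMap * LinearMap.toMatrix b b (φ y).toLinearMap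
    rw [map_mul, ← LinearMap.toMatrix_mul]
    rfl
  · intro x y h
    have h1 : LinearMap.toMatrix b b (φ x).toLinearMap = LinearMap.toMatrix b b (φ y).toLinearMap := congrArg Subtype.val h
    have h2 := (LinearMap.toMatrix b b).injective h1
    exact hφ (LinearEquiv.toLinearMap_injective h2)

/-- diagonal matrices of determinant one -/
def diagHom {F : Type*} [Field F] (P : Subgroup Fˣ) (k : ℕ) : (Fin k → P) →* Matrix.SpecialLinearGroup (Fin (k + 1)) F where
  toFun u := ⟨Matrix.diagonal (Fin.cons (((∏ i, (u i : Fˣ))⁻¹ : Fˣ) : F) fun i => ((u i : Fˣ) : F)), by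
    rw [Matrix.det_diagonal, Fin.prod_univ_succ, Fin.cons_zero]
    simp only [Fin.cons_succ]
    rw [← Units.coe_prod, ← Units.val_mul, inv_mul_cancel, Units.val_one]⟩
  map_one' := by
    refine Subtype.ext ?_
    show Matrix.diagonal _ = (1 : Matrix _ _ F)
    rw [← Matrix.diagonal_one]
    congr 1
    funext i
    refine Fin.cases ?_ (fun j => ?_) i
    · simp only [_root_.Pi.one_apply, _root_.OneMemClass.coe_one, _root_.Finset.prod_const_one, _root_.inv_one, _root_.Units.val_one, _root_.Fin.cons_zero]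
    · simp only [_root_.Pi.one_apply, _root_.OneMemClass.coe_one, _root_.Finset.prod_const_one, _root_.inv_one, _root_.Units.val_one, _root_.Fin.cons_succ]
  map_mul' u v := by
    refine Subtype.ext ?_
    show Matrix.diagonal _ = Matrix.diagonal _ * Matrix.diagonal _
    rw [Matrix.diagonal_mul_diagonal]
    congr 1
    funext i
    refine Fin.cases ?_ (fun j => ?_) i
    · simp only [Fin.cons_zero, Pi.mul_apply, Subgroup.coe_mul, Finset.prod_mul_distrib, mul_inv, Units.val_mul]
    · simp only [_root_.Pi.mul_apply, _root_.Subgroup.coe_mul, _root_.Units.val_inv_eq_inv_val, _root_.Units.coe_prod, _root_.Units.val_mul, _root_.Fin.cons_succ]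

theorem diagHom_injective {F : Type*} [Field F] (P : Subgroup Fˣ) (k : ℕ) : Function.Injective (diagHom P k) := by
  intro u v h
  have h1 := Matrix.diagonal_injective (congrArg Subtype.val h)
  funext i
  have h2 := congrFun h1 i.succ
  simp only [Fin.cons_succ] at h2
  exact Subtype.ext (Units.ext h2)

theorem row_psl {n : ℕ} (hn : 2 ≤ n) {F : Type} [Field F] [Fintype F] (h3 : (3 : F) ≠ 0) :
    Row (Matrix.ProjectiveSpecialLinearGroup (Fin n) F) := by
  intro hV
  have hq1 : 1 < Nat.card F := Finite.one_lt_card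
  have hZ : Nat.card (Subgroup.center (Matrix.SpecialLinearGroup (Fin n) F)) = Nat.gcd n (Nat.card F - 1) := by
    have : Nonempty (Fin n) := ⟨⟨0, by omega⟩⟩
    rw [Nat.card_congr (Matrix.SpecialLinearGroup.center_equiv_rootsOfUnity'
      (n := Fin n) (R := F) ⟨0, by omega⟩).toEquiv, rootsOfUnity_eq_ker,
      IsCyclic.card_powMonoidHom_ker, Nat.card_units, Fintype.card_fin, Nat.gcd_comm]
  have hK := v_quot (Subgroup.center (Matrix.SpecialLinearGroup (Fin n) F))
  have hV' : (Nat.card (Matrix.SpecialLinearGroup (Fin n) F ⧸ Subgroup.center (Matrix.SpecialLinearGroup (Fin n) F))).factorization 3 = 10 :=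
    vn_iff.1 hV
  rcases order_cases h3 with ⟨he, h31⟩ | ⟨he, h31⟩
  · -- `q ≡ 1`
    have hS := vSL he one_ne_zero (n := n) (by omega)
    rw [Nat.div_one, pow_one, Nat.card_units] at hS
    obtain ⟨k, rfl⟩ : ∃ k, n = k + 1 := ⟨n - 1, by omega⟩
    obtain ⟨P, hP, hPc⟩ := exists_part Fˣ
    rw [Nat.card_units] at hPc
    have ha : 1 ≤ (Nat.card F - 1).factorization 3 :=
      Nat.prime_three.factorization_pos_of_dvd (by omega) h31
    have hZn : (Nat.card (Subgroup.center (Matrix.SpecialLinearGroup (Fin (k + 1)) F))).factorization 3 ≤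
        (k + 1).factorial.factorization 3 := by
      rw [hZ]
      exact (Nat.factorization_le_iff_dvd (Nat.gcd_pos_of_pos_left _ (by omega)).ne' (Nat.factorial_ne_zero _)).2
        ((Nat.gcd_dvd_left _ _).trans (Nat.dvd_factorial (by omega) le_rfl)) 3
    have hk : k + 1 ≤ 11 := by
      by_contra hk
      have : k ≤ k * (Nat.card F - 1).factorization 3 := Nat.le_mul_of_pos_right _ ha
      rw [add_mul, one_mul] at hS
      omega
    have := v_fact hk
    refine core _ (diagHom P k) (diagHom_injective P k) (isPGroup_pi hP) ?_ hV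
    rw [card_pi, Fintype.card_fin, hPc]
    rw [add_mul, one_mul] at hS
    omega
  · -- `q ≡ -1`
    have hS := vSL he two_ne_zero (n := n) (by omega)
    have hpq1 : ¬ 3 ∣ Nat.card F - 1 := by omega
    have hu : (Nat.card Fˣ).factorization 3 = 0 := by
      rw [Nat.card_units]
      exact Nat.factorization_eq_zero_of_not_dvd hpq1
    have hz : (Nat.card (Subgroup.center (Matrix.SpecialLinearGroup (Fin n) F))).factorization 3 = 0 := by
      rw [hZ]
      exact Nat.factorization_eq_zero_of_not_dvd fun h => hpq1 (h.trans (Nat.gcd_dvd_right _ _))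
    obtain ⟨L, _, _, _, hLcard, hLrank⟩ := exists_ext F 2 two_ne_zero
    have hLfin : Module.Finite F L := Module.Finite.of_finite
    obtain ⟨P, hP, hPc⟩ := exists_part Lˣ
    rw [Nat.card_units, hLcard] at hPc
    have ha : 1 ≤ (Nat.card F ^ 2 - 1).factorization 3 := by
      refine Nat.prime_three.factorization_pos_of_dvd ?_ ?_
      · have := Nat.one_lt_pow two_ne_zero hq1
        omega
      · have : Nat.card F ^ 2 - 1 = (Nat.card F + 1) * (Nat.card F - 1) := by
          have := Nat.sq_sub_sq (Nat.card F) 1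
          rwa [one_pow] at this
        rw [this]
        exact h31.mul_right _
    have hk : n / 2 ≤ 11 := by
      by_contra hk
      have : n / 2 ≤ n / 2 * (Nat.card F ^ 2 - 1).factorization 3 := Nat.le_mul_of_pos_right _ ha
      omega
    have := v_fact hk
    have hrank : Module.finrank F ((Fin (n / 2) → L) × (Fin (n - n / 2 * 2) → F)) = n := by
      rw [Module.finrank_prod, Module.finrank_fin_fun, Module.finrank_pi_fintype]
      simp only [Finset.sum_const, Finset.card_univ, Fintype.card_fin, hLrank, smul_eq_mul]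
      omega
    obtain ⟨φ, hφ⟩ : ∃ φ : (Fin (n / 2) → P) →* (((Fin (n / 2) → L) × (Fin (n - n / 2 * 2) → F)) ≃ₗ[F]
        ((Fin (n / 2) → L) × (Fin (n - n / 2 * 2) → F))), Function.Injective φ := by
      refine ⟨dg.comp (MonoidHom.pi fun i => ((mulE F).comp P.subtype).comp (Pi.evalMonoidHom _ i)), ?_⟩
      refine dg_injective.comp ?_
      intro u v h
      funext i
      exact Subtype.ext (mulE_injective F (congrFun h i))
    have hpi := isPGroup_pi (ι := Fin (n / 2)) hP
    obtain ⟨f, hf⟩ := exists_hom_SL hrank φ hφ (fun a => by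
      refine det_eq_one_of_pEl (p := 3) hpq1 ?_
      obtain ⟨k, hk⟩ := hpi a
      exact ⟨k, by rw [← map_pow, hk, map_one]⟩)
    refine core _ f hf hpi ?_ hV
    rw [card_pi, Fintype.card_fin, hPc]
    omega

end Cfsg.Agent.H458.Ab3
end

-- part: H978/ThreeTor
section
/-!
# Large abelian 3-subgroups of `PSp_{2m}(q)`, `3 ∤ q` (helper978, for S5229/S5231)

* `exists_P` : `SL(2, F)` has an abelian Sylow 3-subgroup of order `3 ^ v_3(q ^ 2 - 1)`.
* `am_ge` : the arithmetic.
* `row_psp`.
-/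

set_option autoImplicit false

namespace Cfsg.Agent.H978.ThreeTor

open Matrix
open Cfsg.Agent.H777.Elim Cfsg.Agent.H749

/-- matrices commuting with a non-scalar 2×2 matrix commute -/
theorem comm_two {F : Type*} [Field F] {z A B : Matrix (Fin 2) (Fin 2) F}
    (hz : ¬ (z 0 1 = 0 ∧ z 1 0 = 0 ∧ z 0 0 = z 1 1)) (hA : A * z = z * A) (hB : B * z = z * B) : A * B = B * A := by
  have a00 := congrFun (congrFun hA 0) 0
  have a01 := congrFun (congrFun hA 0) 1
  have a10 := congrFun (congrFun hA 1) 0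
  have b00 := congrFun (congrFun hB 0) 0
  have b01 := congrFun (congrFun hB 0) 1
  have b10 := congrFun (congrFun hB 1) 0
  simp only [Matrix.mul_apply, Fin.sum_univ_two] at a00 a01 a10 b00 b01 b10
  -- the vectors `(A01, A10, A00 - A11)` and `(z01, z10, z00 - z11)` are parallel
  have key : A 0 1 * B 1 0 = B 0 1 * A 1 0 ∧ (A 0 0 - A 1 1) * B 0 1 = (B 0 0 - B 1 1) * A 0 1 ∧
      (A 0 0 - A 1 1) * B 1 0 = (B 0 0 - B 1 1) * A 1 0 := by
    by_cases h1 : z 0 1 = 0
    · by_cases h2 : z 1 0 = 0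
      · have h3 : z 0 0 - z 1 1 ≠ 0 := fun h => hz ⟨h1, h2, sub_eq_zero.1 h⟩
        have e1 : A 0 1 = 0 := by
          have : (z 0 0 - z 1 1) * A 0 1 = 0 := by rw [h1] at a01; linear_combination -a01
          exact (mul_eq_zero.1 this).resolve_left h3
        have e2 : A 1 0 = 0 := by
          have : (z 0 0 - z 1 1) * A 1 0 = 0 := by rw [h2] at a10; linear_combination a10
          exact (mul_eq_zero.1 this).resolve_left h3
        have e3 : B 0 1 = 0 := by
          have : (z 0 0 - z 1 1) * B 0 1 = 0 := by rw [h1] at b01; linear_combination -b01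
          exact (mul_eq_zero.1 this).resolve_left h3
        have e4 : B 1 0 = 0 := by
          have : (z 0 0 - z 1 1) * B 1 0 = 0 := by rw [h2] at b10; linear_combination b10
          exact (mul_eq_zero.1 this).resolve_left h3
        rw [e1, e2, e3, e4]
        simp
      · refine ⟨?_, ?_, ?_⟩ <;> refine mul_left_cancel₀ h2 ?_
        · linear_combination (B 1 0) * a00 - (A 1 0) * b00
        · rw [h1] at a00 b00 a01 b01
          have e1 : A 0 1 = 0 := by
            have : z 1 0 * A 0 1 = 0 := by linear_combination a00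
            exact (mul_eq_zero.1 this).resolve_left h2
          have e2 : B 0 1 = 0 := by
            have : z 1 0 * B 0 1 = 0 := by linear_combination b00
            exact (mul_eq_zero.1 this).resolve_left h2
          rw [e1, e2]
          simp
        · linear_combination (-B 1 0) * a10 + (A 1 0) * b10
    · refine ⟨?_, ?_, ?_⟩ <;> refine mul_left_cancel₀ h1 ?_
      · linear_combination (B 0 1) * a00 - (A 0 1) * b00
      · linear_combination (B 0 1) * a01 - (A 0 1) * b01
      · have e1 : z 0 1 * (A 0 0 - A 1 1) = A 0 1 * (z 0 0 - z 1 1) := by linear_combination a01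
        have e2 : z 0 1 * (B 0 0 - B 1 1) = B 0 1 * (z 0 0 - z 1 1) := by linear_combination b01
        have e3 : z 0 1 * A 1 0 = A 0 1 * z 1 0 := by linear_combination -a00
        have e4 : z 0 1 * B 1 0 = B 0 1 * z 1 0 := by linear_combination -b00
        refine mul_left_cancel₀ h1 ?_
        linear_combination (z 0 1 * B 1 0) * e1 - (z 0 1 * A 1 0) * e2 + A 0 1 * (z 0 0 - z 1 1) * e4
          - B 0 1 * (z 0 0 - z 1 1) * e3
  obtain ⟨k1, k2, k3⟩ := key
  ext i j
  fin_cases i <;> fin_cases j <;> simp only [Matrix.mul_apply, Fin.sum_univ_two] <;> simp only [_root_.Fin.zero_eta, _root_.Fin.isValue, _root_.Fin.mk_one]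
  · linear_combination k1
  · linear_combination k2
  · linear_combination -k3
  · linear_combination -k1

section syl

variable {F : Type*} [Field F] [Fintype F]

/-- `SL(2, F)`, `3 ∤ |F|`, has an abelian Sylow 3-subgroup. -/
theorem exists_P (_h3 : (3 : F) ≠ 0) : ∃ P : Subgroup (_root_.Matrix.SpecialLinearGroup (Fin 2) F), IsPGroup 3 P ∧
    (∀ x ∈ P, ∀ y ∈ P, x * y = y * x) ∧
    Nat.card P = 3 ^ (Nat.card (_root_.Matrix.SpecialLinearGroup (Fin 2) F)).factorization 3 := by
  have hf : Fact (Nat.Prime 3) := ⟨Nat.prime_three⟩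
  obtain ⟨P⟩ : Nonempty (Sylow 3 (_root_.Matrix.SpecialLinearGroup (Fin 2) F)) := inferInstance
  refine ⟨P, P.isPGroup', ?_, P.card_eq_multiplicity⟩
  rcases subsingleton_or_nontrivial (P : Subgroup (_root_.Matrix.SpecialLinearGroup (Fin 2) F)) with hs | hn
  · intro x hx y hy
    have h1 : (⟨x, hx⟩ : P) = ⟨y, hy⟩ := Subsingleton.elim _ _
    have h2 : x = y := congrArg Subtype.val h1
    rw [h2]
  · have hc := P.isPGroup'.center_nontrivial
    obtain ⟨⟨z, hz⟩, hz1⟩ := exists_ne (1 : Subgroup.center (P : Subgroup (_root_.Matrix.SpecialLinearGroup (Fin 2) F)))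
    have hcz : ∀ x ∈ (P : Subgroup (_root_.Matrix.SpecialLinearGroup (Fin 2) F)), x.1 * z.1.1 = z.1.1 * x.1 := by
      intro x hx
      have := Subgroup.mem_center_iff.1 hz ⟨x, hx⟩
      exact congrArg (fun g : P => (g.1 : _root_.Matrix.SpecialLinearGroup (Fin 2) F).1) this
    have hns : ¬ (z.1.1 0 1 = 0 ∧ z.1.1 1 0 = 0 ∧ z.1.1 0 0 = z.1.1 1 1) := by
      rintro ⟨e1, e2, e3⟩
      apply hz1
      -- `z` is scalar with `z ^ 2 = 1`
      have hd := z.1.2
      rw [det_fin_two, e1, e2, ← e3, mul_zero, sub_zero] at hd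
      have h2 : z.1 * z.1 = 1 := by
        apply Subtype.ext
        change z.1.1 * z.1.1 = 1
        ext i j
        (revert i j; simp only [Matrix.mul_apply, Fin.sum_univ_two, e1, e2, ← e3, hd, _root_.Fin.forall_fin_succ, Fin.isValue, _root_.MulZeroClass.mul_zero, _root_.add_zero, _root_.Fin.succ_zero_eq_one, _root_.zero_add, _root_.IsEmpty.forall_iff, _root_.and_true, _root_.Matrix.one_apply_eq, _root_.MulZeroClass.zero_mul, Nat.reduceAdd, _root_.ne_eq, _root_.zero_ne_one, _root_.not_false_eq_true, _root_.Matrix.one_apply_ne, _root_.and_self, _root_.Fin.succ_ne_zero, _root_.mul_eq_zero, _root_.true_or])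
      obtain ⟨k, hk⟩ := P.isPGroup' z
      have h4 : z ^ 2 = 1 := Subtype.ext (by rw [pow_two]; exact h2)
      have h5 : z ^ Nat.gcd 2 (3 ^ k) = 1 := pow_gcd_eq_one.2 ⟨h4, hk⟩
      have h6 : Nat.gcd 2 (3 ^ k) = 1 := Nat.Coprime.pow_right k (by norm_num)
      rw [h6, pow_one] at h5
      exact Subtype.ext h5
    intro x hx y hy
    apply Subtype.ext
    exact comm_two hns (hcz x hx) (hcz y hy)

end syl

/-! ### the arithmetic -/

theorem three_not_dvd {F : Type*} [Field F] [Fintype F] (h3 : (3 : F) ≠ 0) : ¬ (3 : ℤ) ∣ (Fintype.card F : ℤ) := by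
  intro h
  apply h3
  have h1 : (3 : ℕ) ∣ Fintype.card F := by exact_mod_cast h
  obtain ⟨p, hp⟩ := CharP.exists F
  have hpp : Nat.Prime p := CharP.char_is_prime F p
  obtain ⟨n, -, hn⟩ := FiniteField.card F p
  rw [hn] at h1
  have h2 : 3 ∣ p := Nat.prime_three.dvd_of_dvd_pow h1
  have h4 : 3 = p := (Nat.prime_dvd_prime_iff_eq Nat.prime_three hpp).1 h2
  subst h4
  exact_mod_cast CharP.cast_eq_zero F 3

/-- the 3-part of `∏ (q ^ (2 i) - 1)` -/
theorem fact_prod {q : ℕ} (hq : 1 < q) (h3 : ¬ (3 : ℤ) ∣ (q : ℤ)) (m : ℕ) :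
    (∏ i ∈ Finset.range m, (q ^ (2 * (i + 1)) - 1)).factorization 3 =
      m * (q ^ 2 - 1).factorization 3 + m.factorial.factorization 3 := by
  have hdec : ∀ x : ZMod 3, x ≠ 0 → x ^ 2 = 1 := by decide
  have hf : Fact (Nat.Prime 3) := ⟨Nat.prime_three⟩
  have h1 : orderOf (((q : ℤ) ^ 2 : ℤ) : ZMod 3) = 1 := by
    rw [orderOf_eq_one_iff]
    have hne : ((q : ℤ) : ZMod 3) ≠ 0 := by
      intro h
      exact h3 ((ZMod.intCast_zmod_eq_zero_iff_dvd _ 3).1 h)
    push_cast at hne ⊢
    exact hdec _ hne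
  have hq2 : (1 : ℤ) < (q : ℤ) ^ 2 := by
    have : (1 : ℤ) < q := by exact_mod_cast hq
    nlinarith only [hq]
  have h2 := vp_prod (p := 3) (by norm_num) h1 (fun i hi h => by
    have := one_lt_pow₀ hq2 hi
    omega) m
  have h4 : vp 3 (∏ i ∈ Finset.range m, (((q : ℤ) ^ 2) ^ (i + 1) - 1)) =
      (∏ i ∈ Finset.range m, (q ^ (2 * (i + 1)) - 1)).factorization 3 := by
    rw [← vp_natCast]
    congr 1
    rw [Nat.cast_prod]
    refine Finset.prod_congr rfl fun i _ => ?_
    rw [Nat.cast_sub (Nat.one_le_pow _ _ (by omega))]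
    push_cast
    rw [pow_mul]
  have h5 : vp 3 (((q : ℤ) ^ 2) ^ 1 - 1) = (q ^ 2 - 1).factorization 3 := by
    rw [← vp_natCast]
    congr 1
    rw [Nat.cast_sub (Nat.one_le_pow _ _ (by omega))]
    push_cast
    rw [pow_one]
  rw [h4, h5, Nat.div_one] at h2
  exact h2

theorem fact_le (m : ℕ) : 2 * m.factorial.factorization 3 ≤ m := by
  have hf : Fact (Nat.Prime 3) := ⟨Nat.prime_three⟩
  have h1 := sub_one_mul_padicValNat_factorial (p := 3) m
  rw [← Nat.factorization_def _ Nat.prime_three] at h1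
  omega

theorem a_pos {q : ℕ} (hq : 1 < q) (h3 : ¬ (3 : ℤ) ∣ (q : ℤ)) : 1 ≤ (q ^ 2 - 1).factorization 3 := by
  have h0 : q ^ 2 - 1 ≠ 0 := by
    have : 1 < q ^ 2 := one_lt_pow₀ hq (by norm_num)
    omega
  rw [Nat.one_le_iff_ne_zero, ← Nat.pos_iff_ne_zero]
  apply Nat.prime_three.factorization_pos_of_dvd h0
  have h1 : q % 3 = 1 ∨ q % 3 = 2 := by
    have : ¬ (3 : ℕ) ∣ q := fun h => h3 (by exact_mod_cast h)
    omega
  have h2 : q ^ 2 % 3 = 1 := by
    rw [Nat.pow_mod]
    rcases h1 with h1 | h1 <;> rw [h1]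
  omega

/-- the arithmetic -/
theorem am_ge {q m : ℕ} (hq : 1 < q) (h3 : ¬ (3 : ℤ) ∣ (q : ℤ))
    (h : 10 ≤ (∏ i ∈ Finset.range m, (q ^ (2 * (i + 1)) - 1)).factorization 3) :
    6 ≤ m * (q ^ 2 - 1).factorization 3 := by
  rw [fact_prod hq h3] at h
  have h1 := fact_le m
  have h2 : m ≤ m * (q ^ 2 - 1).factorization 3 := Nat.le_mul_of_pos_right m (a_pos hq h3)
  omega

/-! ### the symplectic groups -/

section psp

variable {m : ℕ} {F : Type} [Field F]

/-- `m` commuting copies of `SL(2, F)` -/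
def blk (m : ℕ) (F : Type) [Field F] : (Fin m → _root_.Matrix.SpecialLinearGroup (Fin 2) F) →* symplecticGroup (Fin m) F where
  toFun A := ⟨fromBlocks (diagonal fun i => (A i).1 0 0) (diagonal fun i => (A i).1 0 1)
      (diagonal fun i => (A i).1 1 0) (diagonal fun i => (A i).1 1 1), by
    rw [SymplecticGroup.mem_iff, J, fromBlocks_transpose, fromBlocks_multiply, fromBlocks_multiply]
    simp only [diagonal_transpose, Matrix.mul_zero, Matrix.mul_one, Matrix.mul_neg, zero_add, add_zero, Matrix.neg_mul,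
      diagonal_mul_diagonal]
    have hd : ∀ i, (A i).1 0 0 * (A i).1 1 1 - (A i).1 0 1 * (A i).1 1 0 = 1 := fun i => by
      rw [← det_fin_two]
      exact (A i).2
    rw [fromBlocks_inj]
    refine ⟨?_, ?_, ?_, ?_⟩
    · ext i j
      by_cases hij : i = j
      · subst hij
        simp only [_root_.Fin.isValue, _root_.Matrix.diagonal_neg, _root_.Matrix.add_apply, _root_.Matrix.diagonal_apply_eq, _root_.Matrix.zero_apply]
        ring
      · simp [hij]
    · ext i j
      by_cases hij : i = j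
      · subst hij
        simp only [_root_.Fin.isValue, _root_.Matrix.diagonal_neg, _root_.Matrix.add_apply, _root_.Matrix.diagonal_apply_eq, _root_.Matrix.neg_apply, _root_.Matrix.one_apply_eq]
        linear_combination -hd i
      · simp [hij]
    · ext i j
      by_cases hij : i = j
      · subst hij
        simp only [_root_.Fin.isValue, _root_.Matrix.diagonal_neg, _root_.Matrix.add_apply, _root_.Matrix.diagonal_apply_eq, _root_.Matrix.one_apply_eq]
        linear_combination hd i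
      · simp [hij]
    · ext i j
      by_cases hij : i = j
      · subst hij
        simp only [_root_.Fin.isValue, _root_.Matrix.diagonal_neg, _root_.Matrix.add_apply, _root_.Matrix.diagonal_apply_eq, _root_.Matrix.zero_apply]
        ring
      · simp [hij]⟩
  map_one' := by
    apply Subtype.ext
    change fromBlocks _ _ _ _ = (1 : Matrix (Fin m ⊕ Fin m) (Fin m ⊕ Fin m) F)
    rw [← fromBlocks_one, fromBlocks_inj]
    refine ⟨?_, ?_, ?_, ?_⟩ <;> simp
  map_mul' A B := by
    apply Subtype.ext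
    change fromBlocks _ _ _ _ = fromBlocks _ _ _ _ * fromBlocks _ _ _ _
    rw [fromBlocks_multiply]
    simp only [diagonal_mul_diagonal, diagonal_add]
    rw [fromBlocks_inj]
    have e : ∀ i (k l : Fin 2), ((A * B) i).1 k l = (A i).1 k 0 * (B i).1 0 l + (A i).1 k 1 * (B i).1 1 l := by
      intro i k l
      change ((A i).1 * (B i).1) k l = _
      rw [Matrix.mul_apply, Fin.sum_univ_two]
    simp only [e]
    exact ⟨trivial, trivial, trivial, trivial⟩

theorem blk_injective : Function.Injective (blk m F) := by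
  intro A B h
  have h1 := congrArg Subtype.val h
  change fromBlocks _ _ _ _ = fromBlocks _ _ _ _ at h1
  rw [fromBlocks_inj] at h1
  obtain ⟨k1, k2, k3, k4⟩ := h1
  funext i
  apply Subtype.ext
  ext a b
  fin_cases a <;> fin_cases b
  · exact congrFun (diagonal_injective k1) i
  · exact congrFun (diagonal_injective k2) i
  · exact congrFun (diagonal_injective k3) i
  · exact congrFun (diagonal_injective k4) i

theorem row_psp {m : ℕ} (hm : 1 ≤ m) {F : Type} [Field F] [Fintype F] (h3 : (3 : F) ≠ 0) :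
    Cfsg.Agent.H777.Elim.Row (Cfsg.PSp m F) := by
  rintro ⟨hV, -⟩
  have hf : Fact (Nat.Prime 3) := ⟨Nat.prime_three⟩
  obtain ⟨P, hP, hPc, hcard⟩ := exists_P h3
  have hq : 1 < Fintype.card F := Fintype.one_lt_card
  have hq3 := three_not_dvd h3
  -- the order of `SL(2, q)`
  have hsl : (Nat.card (_root_.Matrix.SpecialLinearGroup (Fin 2) F)).factorization 3 = (Fintype.card F ^ 2 - 1).factorization 3 := by
    rw [LFourR.LiftPlus.card_SL2, Nat.factorization_mul Fintype.card_ne_zero (by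
      have : 1 < Fintype.card F ^ 2 := one_lt_pow₀ hq (by norm_num)
      omega), Finsupp.add_apply, Nat.factorization_eq_zero_of_not_dvd (fun h => hq3 (by exact_mod_cast h)), zero_add]
  have ham : 6 ≤ m * (Fintype.card F ^ 2 - 1).factorization 3 := by
    apply am_ge hq hq3
    have h1 := S0245.result (F := F) rfl m
    have h2 : 3 ^ 10 ∣ Nat.card (symplecticGroup (Fin m) F) := by
      refine hV.trans ?_
      exact Subgroup.card_quotient_dvd_card _
    rw [h1] at h2
    have hnz : ∏ i ∈ Finset.range m, (Fintype.card F ^ (2 * (i + 1)) - 1) ≠ 0 := by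
      rw [Finset.prod_ne_zero_iff]
      intro i _
      have : 1 < Fintype.card F ^ (2 * (i + 1)) := one_lt_pow₀ hq (by omega)
      omega
    have h4 : Nat.Coprime (3 ^ 10) (Fintype.card F ^ m ^ 2) := by
      apply Nat.Coprime.pow
      rw [Nat.Prime.coprime_iff_not_dvd Nat.prime_three]
      intro h
      exact hq3 (by exact_mod_cast h)
    have h5 := h4.dvd_of_dvd_mul_left h2
    exact (Nat.Prime.pow_dvd_iff_le_factorization Nat.prime_three hnz).1 h5
  set A : Subgroup (Fin m → _root_.Matrix.SpecialLinearGroup (Fin 2) F) := Subgroup.pi Set.univ fun _ => P with hA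
  have hAmem : ∀ x, x ∈ A ↔ ∀ i, x i ∈ P := fun x => by
    rw [hA, Subgroup.mem_pi]
    simp only [_root_.Set.mem_univ, _root_.forall_const]
  have hA3 : IsPGroup 3 A := by
    rintro ⟨x, hx⟩
    have h1 : ∀ i, ∃ k, x i ^ 3 ^ k = 1 := by
      intro i
      obtain ⟨k, hk⟩ := hP ⟨x i, (hAmem x).1 hx i⟩
      exact ⟨k, congrArg Subtype.val hk⟩
    choose k hk using h1
    refine ⟨∑ i, k i, Subtype.ext ?_⟩
    funext i
    change x i ^ 3 ^ (∑ i, k i) = 1
    rw [← Finset.add_sum_erase _ _ (Finset.mem_univ i), pow_add, pow_mul, hk i, one_pow]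
  have hAc : Nat.card A = (3 ^ (Fintype.card F ^ 2 - 1).factorization 3) ^ m := by
    have e : A ≃ (Fin m → P) :=
      { toFun := fun x i => ⟨x.1 i, (hAmem x.1).1 x.2 i⟩
        invFun := fun x => ⟨fun i => (x i).1, (hAmem _).2 fun i => (x i).2⟩
        left_inv := fun x => rfl
        right_inv := fun x => rfl }
    rw [Nat.card_congr e, Nat.card_fun, hcard, hsl]
    simp only [_root_.Nat.card_eq_fintype_card, _root_.Fintype.card_fin]
  refine Big.of_hom ((QuotientGroup.mk' (Subgroup.center (symplecticGroup (Fin m) F))).comp (blk m F)) hA3 ?_ ?_ ?_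
  · intro x hx y hy
    funext i
    exact hPc _ ((hAmem x).1 hx i) _ ((hAmem y).1 hy i)
  · rw [hAc, ← pow_mul]
    exact Nat.pow_le_pow_right (by norm_num) (by rw [mul_comm]; exact ham)
  · intro x hx h1
    have h2 : blk m F x ∈ Subgroup.center (symplecticGroup (Fin m) F) := (QuotientGroup.eq_one_iff _).1 h1
    have h4 : (⟨blk m F x, h2⟩ : Subgroup.center (symplecticGroup (Fin m) F)) ^
        Nat.card (Subgroup.center (symplecticGroup (Fin m) F)) = 1 := pow_card_eq_one'
    have h5 : x ^ Nat.card (Subgroup.center (symplecticGroup (Fin m) F)) = 1 := by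
      apply blk_injective
      rw [map_pow, map_one]
      exact congrArg Subtype.val h4
    obtain ⟨k, hk⟩ := hA3 ⟨x, hx⟩
    have h6 : x ^ 3 ^ k = 1 := congrArg Subtype.val hk
    have h7 := pow_gcd_eq_one.2 ⟨h5, h6⟩
    have h8 : Nat.gcd (Nat.card (Subgroup.center (symplecticGroup (Fin m) F))) (3 ^ k) = 1 := by
      rw [S0246.result (F := F) rfl m hm]
      apply Nat.Coprime.pow_right
      exact Nat.Coprime.coprime_dvd_left (Nat.gcd_dvd_left _ _) (by norm_num)
    rw [h8, pow_one] at h7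
    exact h7

end psp

end Cfsg.Agent.H978.ThreeTor
end
end

-- part: H777/Count
section
set_option linter.all false
open scoped Cfsg.Agent.FastGrp

-- part: H777/RealSimple
section
/-!
# From a group without proper strongly closed subgroups to a simple group (helper777)
-/

set_option autoImplicit false

namespace Cfsg.Agent.H777.Real

open Cfsg Cfsg.Agent.Lib.Cores

universe u v

/-- `φ` is induced by conjugation in `G` (through `ι`). -/
def Fus {P : Type u} {G : Type v} [Group P] [Group G] (ι : P →* G) {Q : Subgroup P} (φ : Q →* P) : Prop :=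
  ∃ g : G, ∀ x : Q, ι (φ x) = g * ι x * g⁻¹

variable {p : ℕ} [Fact p.Prime]

/-- A normal subgroup of order divisible by `p` meets a Sylow `p`-subgroup nontrivially. -/
theorem exists_mem_sylow {G : Type v} [Group G] [Finite G] (T : Sylow p G) {K : Subgroup G} [K.Normal]
    (hK : ¬ (Nat.card K).Coprime p) : ∃ x ∈ K, x ∈ (T : Subgroup G) ∧ x ≠ 1 := by
  have hp : p.Prime := Fact.out
  have hd : p ∣ Nat.card K := by
    by_contra h
    exact hK ((Nat.Prime.coprime_iff_not_dvd hp).2 h).symm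
  obtain ⟨y, hy⟩ := exists_prime_orderOf_dvd_card' p hd
  have hyp : IsPGroup p (Subgroup.zpowers (y : G)) := by
    apply IsPGroup.of_card (n := 1)
    rw [Nat.card_zpowers, Subgroup.orderOf_coe, hy, pow_one]
  obtain ⟨Q, hQ⟩ := hyp.exists_le_sylow
  obtain ⟨g, hg⟩ := MulAction.exists_smul_eq G Q T
  refine ⟨g * y * g⁻¹, Subgroup.Normal.conj_mem inferInstance _ y.2 g, ?_, ?_⟩
  · rw [← hg, Sylow.coe_subgroup_smul]
    exact ⟨y, hQ (Subgroup.mem_zpowers _), rfl⟩
  · intro h
    have h2 : (y : G) = 1 := by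
      calc (y : G) = g⁻¹ * (g * y * g⁻¹) * g := by group
        _ = 1 := by rw [h]; group
    have h3 : orderOf (y : G) = 1 := by rw [h2, orderOf_one]
    rw [Subgroup.orderOf_coe, hy] at h3
    exact hp.one_lt.ne' h3

/-- A nontrivial normal subgroup with a minimal order. -/
theorem exists_min {G : Type v} [Group G] [Finite G] (H : Subgroup G) (hH : H.Normal) (h1 : H ≠ ⊥) :
    ∃ K : Subgroup G, K.Normal ∧ K ≠ ⊥ ∧ K ≤ H ∧ ∀ L : Subgroup G, L.Normal → L ≠ ⊥ → L ≤ K → L = K := by
  obtain ⟨K, hK, hmin⟩ := Set.exists_min_image {K : Subgroup G | K.Normal ∧ K ≠ ⊥ ∧ K ≤ H} (fun K => Nat.card K)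
    (Set.toFinite _) ⟨H, hH, h1, le_rfl⟩
  refine ⟨K, hK.1, hK.2.1, hK.2.2, fun L hL hL1 hLK => ?_⟩
  have h2 := hmin L ⟨hL, hL1, hLK.trans hK.2.2⟩
  exact Subgroup.eq_of_le_of_card_ge hLK h2

theorem exists_simple {P : Type u} [Group P] [Finite P] (hP : IsPGroup p P)
    {G : Type v} [Group G] [Finite G] (ι : P →* G) (hι : Function.Injective ι) (T : Sylow p G)
    (hT : (T : Subgroup G) = ι.range)
    (hsc : ∀ A : Subgroup P, (∀ a ∈ A, ∀ b : P, (∃ g : G, ι b = g * ι a * g⁻¹) → b ∈ A) → A = ⊥ ∨ A = ⊤)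
    (z : P) (hz : z ≠ 1) (hzmin : ∀ B : Subgroup P, B.Normal → B ≠ ⊥ → z ∈ B) :
    ∃ (K : Type v) (_ : Group K) (_ : Finite K) (κ : P →* K), IsSimpleGroup K ∧ Function.Injective κ ∧
      (∃ T' : Sylow p K, (T' : Subgroup K) = κ.range) ∧
      ∀ (Q : Subgroup P) (φ : Q →* P), Fus κ φ → Fus ι φ := by
  have hp : p.Prime := Fact.out
  set N₀ := pPrimeCore p G with hN₀
  have hN₀c : (Nat.card N₀).Coprime p := pPrimeCore_coprime p
  set ι₁ : P →* G ⧸ N₀ := (QuotientGroup.mk' N₀).comp ι with hι₁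
  have hrp : IsPGroup p ι.range := hP.of_surjective ι.rangeRestrict ι.rangeRestrict_surjective
  have hinj₁ : Function.Injective ι₁ := by
    rw [injective_iff_map_eq_one]
    intro x hx
    have h1 : ι x ∈ N₀ := (QuotientGroup.eq_one_iff _).1 hx
    have h2 := H803.eq_one_of_mem_of_coprime hrp hN₀c (⟨x, rfl⟩ : ι x ∈ ι.range) h1
    exact (injective_iff_map_eq_one ι).1 hι x h2
  -- fusion in the quotient
  have hfus : ∀ (Q : Subgroup P) (φ : Q →* P), Fus ι₁ φ → Fus ι φ := by
    rintro Q φ ⟨g', hg⟩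
    obtain ⟨g, rfl⟩ := QuotientGroup.mk_surjective g'
    obtain ⟨k, hk, hke⟩ := H803.exists_conj_of_congr (hP.to_subgroup Q)
      ((MulAut.conj g).toMonoidHom.comp (ι.comp Q.subtype)) (ι.comp φ) N₀ hN₀c (fun x => by
        rw [← QuotientGroup.eq]
        exact (hg x).symm)
    refine ⟨k * g, fun x => ?_⟩
    have h1 := hke x
    have h2 : ι (φ x) = k * (g * ι x * g⁻¹) * k⁻¹ := h1
    rw [h2]
    group
  have hcard : Nat.card P = p ^ (Nat.card G).factorization p := by
    rw [Nat.card_congr (MonoidHom.ofInjective hι).toEquiv, ← hT]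
    exact T.card_eq_multiplicity
  have hfac : (Nat.card G).factorization p = (Nat.card (G ⧸ N₀)).factorization p := by
    rw [Subgroup.card_eq_card_quotient_mul_card_subgroup N₀,
      Nat.factorization_mul Nat.card_pos.ne' Nat.card_pos.ne']
    have h1 : (Nat.card N₀).factorization p = 0 :=
      Nat.factorization_eq_zero_of_not_dvd ((Nat.Prime.coprime_iff_not_dvd hp).1 hN₀c.symm)
    simp [h1]
  let T₁ : Sylow p (G ⧸ N₀) := Sylow.ofCard ι₁.range (by
    rw [← Nat.card_congr (MonoidHom.ofInjective hinj₁).toEquiv, hcard, hfac])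
  have hT₁ : (T₁ : Subgroup (G ⧸ N₀)) = ι₁.range := rfl
  have hcore : pPrimeCore p (G ⧸ N₀) = ⊥ := pPrimeCore_quotient_pPrimeCore p
  -- a minimal normal subgroup
  have htop : (⊤ : Subgroup (G ⧸ N₀)) ≠ ⊥ := by
    intro h
    have h2 : ι₁ z ∈ (⊥ : Subgroup (G ⧸ N₀)) := by rw [← h]; exact Subgroup.mem_top _
    exact hz (hinj₁ (by rw [Subgroup.mem_bot.1 h2, map_one]))
  obtain ⟨M, hMn, hM1, -, hMmin⟩ := exists_min (⊤ : Subgroup (G ⧸ N₀)) inferInstance htop
  have hMp : ¬ (Nat.card M).Coprime p := by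
    intro h
    have h2 := le_pPrimeCore hMn h
    rw [hcore] at h2
    exact hM1 (le_bot_iff.1 h2)
  have hrM : ι₁.range ≤ M := by
    rcases hsc (M.comap ι₁) (by
      rintro a ha b ⟨g, hg⟩
      rw [Subgroup.mem_comap] at ha ⊢
      have h2 : ι₁ b = (QuotientGroup.mk' N₀ g) * ι₁ a * (QuotientGroup.mk' N₀ g)⁻¹ := by
        rw [hι₁, MonoidHom.comp_apply, MonoidHom.comp_apply, hg, map_mul, map_mul, map_inv]
      rw [h2]
      exact hMn.conj_mem _ ha _) with h | h
    · exfalso
      obtain ⟨x, hxM, hxT, hx1⟩ := exists_mem_sylow T₁ hMp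
      rw [hT₁] at hxT
      obtain ⟨y, rfl⟩ := hxT
      have h2 : y ∈ M.comap ι₁ := hxM
      rw [h, Subgroup.mem_bot] at h2
      exact hx1 (by rw [h2, map_one])
    · rintro _ ⟨x, rfl⟩
      have h2 : x ∈ M.comap ι₁ := by rw [h]; exact Subgroup.mem_top _
      exact h2
  set κ : P →* M := ι₁.codRestrict M (fun x => hrM ⟨x, rfl⟩) with hκ
  have hκi : Function.Injective κ := fun a b hab => hinj₁ (congrArg Subtype.val hab)
  have hT₁M : (T₁ : Subgroup (G ⧸ N₀)) ≤ M := hrM
  have hTM : ((T₁.subtype hT₁M : Sylow p M) : Subgroup M) = κ.range := by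
    ext x
    constructor
    · intro hx
      have h2 : (x : G ⧸ N₀) ∈ ι₁.range := hx
      obtain ⟨y, hy⟩ := h2
      exact ⟨y, Subtype.ext hy⟩
    · rintro ⟨y, rfl⟩
      exact ⟨y, rfl⟩
  have hMcore : pPrimeCore p M = ⊥ := by
    have h := map_subtype_pPrimeCore p hMn
    rw [hcore, inf_bot_eq] at h
    exact (Subgroup.map_eq_bot_iff_of_injective _ M.subtype_injective).1 h
  -- every nontrivial normal subgroup of `M` contains `κ z`
  have hzK : ∀ K : Subgroup M, K.Normal → K ≠ ⊥ → κ z ∈ K := by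
    intro K hKn hK1
    have hKp : ¬ (Nat.card K).Coprime p := by
      intro h
      have h2 := le_pPrimeCore hKn h
      rw [hMcore] at h2
      exact hK1 (le_bot_iff.1 h2)
    obtain ⟨x, hxK, hxT, hx1⟩ := exists_mem_sylow (T₁.subtype hT₁M) hKp
    rw [hTM] at hxT
    obtain ⟨y, rfl⟩ := hxT
    refine hzmin (K.comap κ) inferInstance ?_
    intro h
    have h2 : y ∈ K.comap κ := hxK
    rw [h, Subgroup.mem_bot] at h2
    exact hx1 (by rw [h2, map_one])
  have hκz : κ z ≠ 1 := fun h => hz (hκi (by rw [h, map_one]))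
  have hsimple : IsSimpleGroup M := by
    have hnt : Nontrivial M := ⟨κ z, 1, hκz⟩
    refine ⟨fun H hHn => ?_⟩
    by_cases hH1 : H = ⊥
    · exact Or.inl hH1
    right
    obtain ⟨K, hKn, hK1, hKH, hKmin⟩ := exists_min H hHn hH1
    have hinv : ∀ g : G ⧸ N₀, K ≤ K.map (MulAut.conjNormal g : MulAut M).toMonoidHom := by
      intro g
      have hKg : (K.map (MulAut.conjNormal g : MulAut M).toMonoidHom).Normal :=
        hKn.map _ (MulAut.conjNormal g : MulAut M).surjective
      have hKg1 : K.map (MulAut.conjNormal g : MulAut M).toMonoidHom ≠ ⊥ := by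
        intro h
        exact hK1 ((Subgroup.map_eq_bot_iff_of_injective _ (MulAut.conjNormal g : MulAut M).injective).1 h)
      have h2 := hKmin (K ⊓ K.map (MulAut.conjNormal g : MulAut M).toMonoidHom) inferInstance (by
        intro h
        have h3 : κ z ∈ K ⊓ K.map (MulAut.conjNormal g : MulAut M).toMonoidHom :=
          ⟨hzK K hKn hK1, hzK _ hKg hKg1⟩
        rw [h, Subgroup.mem_bot] at h3
        exact hκz h3) inf_le_left
      exact inf_eq_left.1 h2
    have hKG : (K.map M.subtype).Normal := by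
      refine ⟨?_⟩
      rintro _ ⟨x, hx, rfl⟩ g
      have h2 := hinv g⁻¹ hx
      obtain ⟨y, hy, hyx⟩ := h2
      have h3 : (x : G ⧸ N₀) = g⁻¹ * y * g⁻¹⁻¹ := by
        rw [← hyx]
        rfl
      refine ⟨y, hy, ?_⟩
      show (y : G ⧸ N₀) = g * x * g⁻¹
      rw [h3]
      group
    have h4 := hMmin (K.map M.subtype) hKG (by
      intro h
      exact hK1 ((Subgroup.map_eq_bot_iff_of_injective _ M.subtype_injective).1 h))
      (Subgroup.map_subtype_le K)
    have h5 : K = ⊤ := by
      apply Subgroup.map_injective M.subtype_injective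
      rw [h4, ← MonoidHom.range_eq_map, Subgroup.range_subtype]
    exact top_le_iff.1 (h5 ▸ hKH)
  refine ⟨M, inferInstance, inferInstance, κ, hsimple, hκi, ⟨T₁.subtype hT₁M, hTM⟩, ?_⟩
  rintro Q φ ⟨g, hg⟩
  refine hfus Q φ ⟨(g : G ⧸ N₀), fun x => ?_⟩
  exact congrArg Subtype.val (hg x)

end Cfsg.Agent.H777.Real
end

-- part: H777/Count
section
/-!
# Two Sylow embeddings with comparable fusion have the same fusion (helper777)
-/

set_option autoImplicit false

namespace Cfsg.Agent.H777.Real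

universe u v w

/-- the graphs of the conjugation maps -/
def Gr {P : Type u} {G : Type v} [Group P] [Group G] (ι : P →* G) : Set (Set (P × P)) :=
  {Γ | ∃ (Q : Subgroup P) (g : G), (∀ x ∈ Q, ∃ y, ι y = g * ι x * g⁻¹) ∧
    ∀ q : P × P, q ∈ Γ ↔ q.1 ∈ Q ∧ ι q.2 = g * ι q.1 * g⁻¹}

theorem exists_fus {P : Type u} {G : Type v} [Group P] [Group G] {ι : P →* G} (hι : Function.Injective ι)
    {Q : Subgroup P} {g : G} (h : ∀ x ∈ Q, ∃ y, ι y = g * ι x * g⁻¹) :
    ∃ φ : Q →* P, ∀ x : Q, ι (φ x) = g * ι x * g⁻¹ := by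
  choose! y hy using h
  refine ⟨MonoidHom.mk' (fun x : Q => y x) ?_, fun x => hy x x.2⟩
  intro a b
  apply hι
  show ι (y (a * b : Q)) = ι (y a * y b)
  rw [hy _ (a * b).2, map_mul, hy _ a.2, hy _ b.2, Subgroup.coe_mul, map_mul]
  group

theorem mem_Gr_of_fus {P : Type u} {G : Type v} [Group P] [Group G] {ι : P →* G} (hι : Function.Injective ι)
    {Q : Subgroup P} {φ : Q →* P} (h : Fus ι φ) : {q : P × P | ∃ x : Q, q = ((x : P), φ x)} ∈ Gr ι := by
  obtain ⟨g, hg⟩ := h
  refine ⟨Q, g, fun x hx => ⟨φ ⟨x, hx⟩, hg _⟩, fun q => ⟨?_, fun h => ?_⟩⟩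
  · rintro ⟨x, rfl⟩
    exact ⟨x.2, hg x⟩
  · obtain ⟨q1, q2⟩ := q
    refine ⟨⟨q1, h.1⟩, ?_⟩
    have h2 : q2 = φ ⟨q1, h.1⟩ := hι (by rw [hg]; exact h.2)
    exact Prod.ext rfl h2

theorem Gr_subset {P : Type u} {G : Type v} {H : Type w} [Group P] [Group G] [Group H] {ι : P →* G} {κ : P →* H}
    (hι : Function.Injective ι) (hκ : Function.Injective κ)
    (h : ∀ (Q : Subgroup P) (φ : Q →* P), Fus κ φ → Fus ι φ) : Gr κ ⊆ Gr ι := by
  rintro Γ ⟨Q, k, h1, h2⟩
  obtain ⟨φ, hφ⟩ := exists_fus hκ h1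
  have h3 := mem_Gr_of_fus hι (h Q φ ⟨k, hφ⟩)
  have h4 : Γ = {q : P × P | ∃ x : Q, q = ((x : P), φ x)} := by
    ext q
    rw [h2]
    constructor
    · intro hq
      obtain ⟨q1, q2⟩ := q
      refine ⟨⟨q1, hq.1⟩, ?_⟩
      have h2 : q2 = φ ⟨q1, hq.1⟩ := hκ (by rw [hφ]; exact hq.2)
      exact Prod.ext rfl h2
    · rintro ⟨x, rfl⟩
      exact ⟨x.2, hφ x⟩
  rw [h4]
  exact h3

theorem fus_of_mem_Gr {P : Type u} {G : Type v} [Group P] [Group G] {ι : P →* G}
    {Q : Subgroup P} {φ : Q →* P} (h : {q : P × P | ∃ x : Q, q = ((x : P), φ x)} ∈ Gr ι) : Fus ι φ := by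
  obtain ⟨Q', g, h1, h2⟩ := h
  refine ⟨g, fun x => ?_⟩
  exact ((h2 ((x : P), φ x)).1 ⟨x, rfl⟩).2

/-- Two Sylow embeddings with comparable fusion have the same fusion. -/
theorem fus_iff_of_le {P : Type u} [Group P] [Finite P] {G : Type v} [Group G] [Finite G] {p : ℕ} [Fact p.Prime]
    {f κ : P →* G} (hf : Function.Injective f) (hκ : Function.Injective κ) (T T₂ : Sylow p G)
    (hT : (T : Subgroup G) = f.range) (hT₂ : (T₂ : Subgroup G) = κ.range)
    (h : ∀ (Q : Subgroup P) (φ : Q →* P), Fus κ φ → Fus f φ) (Q : Subgroup P) (φ : Q →* P) (hφ : Fus f φ) :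
    Fus κ φ := by
  have hsub := Gr_subset hf hκ h
  -- an automorphism of `P`
  obtain ⟨g, hg⟩ := MulAction.exists_smul_eq G T T₂
  have hmem : ∀ x : P, ∃ y : P, κ y = g * f x * g⁻¹ := by
    intro x
    have h1 : g * f x * g⁻¹ ∈ (T₂ : Subgroup G) := by
      rw [← hg, Sylow.coe_subgroup_smul, hT]
      exact ⟨f x, ⟨x, rfl⟩, rfl⟩
    rw [hT₂] at h1
    obtain ⟨y, hy⟩ := h1
    exact ⟨y, hy⟩
  choose θ hθ using hmem
  have hθi : Function.Injective θ := by
    intro x y hxy
    apply hf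
    have h1 : g * f x * g⁻¹ = g * f y * g⁻¹ := by rw [← hθ, ← hθ, hxy]
    exact mul_left_cancel (mul_right_cancel h1)
  have hθb : Function.Bijective θ := Finite.injective_iff_bijective.1 hθi
  have hθm : ∀ x y, θ (x * y) = θ x * θ y := by
    intro x y
    apply hκ
    rw [map_mul, hθ, hθ, hθ, map_mul]
    group
  let Θ : P ≃* P := MulEquiv.ofBijective (MonoidHom.mk' θ hθm) hθb
  have hΘ : ∀ x, κ (Θ x) = g * f x * g⁻¹ := hθ
  -- the graphs for `f` inject into those for `κ`
  have himg : ∀ Γ ∈ Gr f, (Prod.map Θ Θ) '' Γ ∈ Gr κ := by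
    rintro Γ ⟨Q', k, h1, h2⟩
    refine ⟨Q'.map Θ.toMonoidHom, g * k * g⁻¹, ?_, ?_⟩
    · rintro _ ⟨x, hx, rfl⟩
      obtain ⟨y, hy⟩ := h1 x hx
      refine ⟨Θ y, ?_⟩
      show κ (Θ y) = g * k * g⁻¹ * κ (Θ x) * (g * k * g⁻¹)⁻¹
      rw [hΘ, hΘ, hy]
      group
    · rintro ⟨a, b⟩
      obtain ⟨x, rfl⟩ := Θ.surjective a
      obtain ⟨y, rfl⟩ := Θ.surjective b
      have e1 : ((Θ x, Θ y) ∈ (Prod.map Θ Θ) '' Γ) ↔ (x, y) ∈ Γ := by
        constructor
        · rintro ⟨⟨x', y'⟩, hxy, he⟩
          rw [Prod.map_apply, Prod.mk.injEq] at he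
          have e1 := Θ.injective he.1
          have e2 := Θ.injective he.2
          rw [← e1, ← e2]
          exact hxy
        · intro hxy
          exact ⟨(x, y), hxy, rfl⟩
      rw [e1, h2]
      have e2 : Θ x ∈ Q'.map Θ.toMonoidHom ↔ x ∈ Q' := by
        constructor
        · rintro ⟨x', hx', he⟩
          have : x' = x := Θ.injective he
          rwa [← this]
        · intro hx
          exact ⟨x, hx, rfl⟩
      have e3 : κ (Θ y) = g * k * g⁻¹ * κ (Θ x) * (g * k * g⁻¹)⁻¹ ↔ f y = k * f x * k⁻¹ := by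
        rw [hΘ, hΘ]
        have e4 : g * k * g⁻¹ * (g * f x * g⁻¹) * (g * k * g⁻¹)⁻¹ = g * (k * f x * k⁻¹) * g⁻¹ := by group
        rw [e4]
        exact ⟨fun h => mul_left_cancel (mul_right_cancel h), fun h => by rw [h]⟩
      rw [e2, e3]
  have hinj : Function.Injective (fun Γ : Set (P × P) => (Prod.map Θ Θ) '' Γ) :=
    Set.image_injective.2 (Prod.map_injective.2 ⟨Θ.injective, Θ.injective⟩)
  have hcard : (Gr f).ncard ≤ (Gr κ).ncard :=
    Set.ncard_le_ncard_of_injOn _ himg hinj.injOn (Set.toFinite _)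
  have heq : Gr κ = Gr f := Set.eq_of_subset_of_ncard_le hsub hcard (Set.toFinite _)
  apply fus_of_mem_Gr
  rw [heq]
  exact mem_Gr_of_fus hf hφ

end Cfsg.Agent.H777.Real
end
end
end
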